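import Groth.Agent.NonFine97.LinHyp
import Groth.Agent.Crv77.PlaneCoh
import Groth.Agent.Crv77.PlaneQuartic
import Groth.Agent.Crv77.GeomConn
import Groth.Agent.Crv77.BaseChange
import Groth.Agent.Smooth31.HyperCrit
import Groth.Agent.WC97.Reduced
import Groth.Prelude.Def_ModFun

/-!
Smooth plane cubics as curves of genus one, and their behaviour under diagonal substitutions.
-/

set_option autoImplicit false
set_option backward.isDefEq.respectTransparency.types false
set_option linter.style.haveILetI false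

universe u

noncomputable section

open CategoryTheory CategoryTheory.Limits AlgebraicGeometry TopologicalSpace Opposite

namespace Groth.Agent.NonFine97

open Csa25 LefPen

variable {k : Type u} [Field k] {d : ℕ}

/-- The plane curve of a form. -/
abbrev YY (G : Form 2 k d) : Scheme.{u} := (hypIdeal G).subscheme

/-- Its structure morphism. -/
abbrev pr (G : Form 2 k d) : YY G ⟶ Spec (CommRingCat.of k) :=
  (hypIdeal G).subschemeι ≫ CohB1.ProjSpace.toSpec 2 k

theorem isPullback_comap {X Y : Scheme.{u}} (f : X ⟶ Y) (I : Y.IdealSheafData) (J : X.IdealSheafData)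
    (h : I.comap f = J) : ∃ top : J.subscheme ⟶ I.subscheme, IsPullback top J.subschemeι I.subschemeι f := by
  subst h
  exact ⟨(I.comapIso f).hom ≫ pullback.snd _ _,
    IsPullback.of_iso (IsPullback.of_hasPullback f I.subschemeι).flip (I.comapIso f).symm (Iso.refl _) (Iso.refl _)
      (Iso.refl _) (by simp only [Iso.symm_hom, Iso.inv_hom_id_assoc, Iso.refl_hom, Category.comp_id]) (by simp)
      (by simp) (by simp)⟩

/-- Extension of the field followed by a diagonal substitution. -/
theorem isPullback_sub {K : Type u} [Field K] [Algebra k K] (c : Fin 3 → K) (hc : ∀ i, c i ≠ 0)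
    (G : Form 2 k d) :
    ∃ top : YY (subForm (algebraMap k K) c G) ⟶ YY G,
      IsPullback top (pr (subForm (algebraMap k K) c G)) (pr G) (Spec.map (CommRingCat.ofHom (algebraMap k K))) := by
  obtain ⟨top, h⟩ := isPullback_comap _ _ _ (comap_hypIdeal (algebraMap k K) c hc G)
  refine ⟨top, h.paste_vert ?_⟩
  have e : linMap (algebraMap k K) (Matrix.diagonal c) (isUnit_diag c hc) =
      linMap (RingHom.id K) (Matrix.diagonal c) (isUnit_diag c hc) ≫ linMap (algebraMap k K) 1 isUnit_one := by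
    rw [linMap_comp]
    exact linMap_congr (RingHom.id_comp _).symm (by simp)
  rw [e]
  haveI : IsIso (linMap (RingHom.id K) (Matrix.diagonal c) (isUnit_diag c hc)) :=
    isIso_linMap (RingEquiv.refl K) (isUnit_diag c hc)
  have h₂ : IsPullback (linMap (RingHom.id K) (Matrix.diagonal c) (isUnit_diag c hc))
      (CohB1.ProjSpace.toSpec 2 K) (CohB1.ProjSpace.toSpec 2 K) (𝟙 _) :=
    IsPullback.of_horiz_isIso ⟨by rw [linMap_toSpec, CommRingCat.ofHom_id, Spec.map_id]⟩
  have := h₂.paste_horiz (isPullback_linMap_one (n := 2) (R := k) (R' := K))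
  rwa [Category.id_comp] at this

theorem subForm_one_val {K : Type u} [Field K] (φ : k →+* K) (G : Form 2 k d) :
    (subForm φ 1 G).1 = MvPolynomial.map φ G.1 := by
  show (linHom φ (Matrix.diagonal 1)).toRingHom G.1 = MvPolynomial.map φ G.1
  refine RingHom.congr_fun (MvPolynomial.ringHom_ext (fun r => ?_) (fun j => ?_)) _
  · exact (linHom_C _ _ r).trans (MvPolynomial.map_C _ r).symm
  · refine (linHom_X _ _ j).trans ?_
    rw [Matrix.diagonal_one', linForm_one, MvPolynomial.map_X]

theorem subForm_one_ne_zero {K : Type u} [Field K] (φ : k →+* K) {G : Form 2 k d} (hG : G ≠ 0) :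
    subForm φ 1 G ≠ 0 := fun h => hG (Subtype.ext (MvPolynomial.map_injective φ φ.injective (by
  rw [← subForm_one_val, h]
  exact (map_zero (MvPolynomial.map φ)).symm)))

theorem exists_fibre {K : Type u} [Field K] (t : Spec (CommRingCat.of K) ⟶ Spec (CommRingCat.of k))
    (G : Form 2 k d) :
    ∃ (φ : k →+* K) (top : YY (subForm φ 1 G) ⟶ YY G),
      t = Spec.map (CommRingCat.ofHom φ) ∧ IsPullback top (pr (subForm φ 1 G)) (pr G) t := by
  obtain ⟨top, h⟩ := @isPullback_sub k _ d K _ (Spec.preimage t).hom.toAlgebra 1 (fun _ => one_ne_zero) G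
  refine ⟨(Spec.preimage t).hom, top, (Spec.map_preimage t).symm, ?_⟩
  have e : Spec.map (CommRingCat.ofHom (Spec.preimage t).hom) = t := Spec.map_preimage t
  have h' : IsPullback top (pr (subForm (Spec.preimage t).hom 1 G)) (pr G)
      (Spec.map (CommRingCat.ofHom (Spec.preimage t).hom)) := h
  rwa [e] at h'

variable (G : Form 2 k d)

theorem connectedSpace_yy (hd : 1 ≤ d) (hG : G ≠ 0) : ConnectedSpace (YY G) := by
  letI : (YY G).Over (Spec (CommRingCat.of k)) := ⟨pr G⟩
  exact Crv77.connectedSpace_of_h0 (YY G) (Crv77.finrank_hh_hypersurface hd G hG rfl).1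

theorem geometricallyConnected_pr (hd : 1 ≤ d) (hG : G ≠ 0) : GeometricallyConnected (pr G) := by
  refine ⟨fun K _ t Z fst snd hp => ?_⟩
  obtain ⟨φ, top, -, hq⟩ := exists_fibre t G
  haveI := connectedSpace_yy (subForm φ 1 G) hd (subForm_one_ne_zero φ hG)
  let e : Z ≅ YY (subForm φ 1 G) := hp.isoIsPullback _ _ hq
  exact e.symm.hom.homeomorph.surjective.connectedSpace e.symm.hom.continuous

variable [Smooth (pr G)]

theorem isIntegral_yy (hd : 1 ≤ d) (hG : G ≠ 0) : IsIntegral (YY G) := by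
  letI : (YY G).Over (Spec (CommRingCat.of k)) := ⟨pr G⟩
  haveI : IsProper (YY G ↘ Spec (CommRingCat.of k)) :=
    haveI := Curves2.ProjLine.isProper_toSpec k 2
    inferInstanceAs (IsProper (pr G))
  haveI : Smooth (YY G ↘ Spec (CommRingCat.of k)) := ‹Smooth (pr G)›
  haveI : GeometricallyConnected (YY G ↘ Spec (CommRingCat.of k)) := geometricallyConnected_pr G hd hG
  haveI := Crv77.geometricallyIrreducible_of_connected k (YY G)
  haveI : IrreducibleSpace (YY G) :=
    GeometricallyIrreducible.irreducibleSpace_of_subsingleton (f := YY G ↘ Spec (CommRingCat.of k))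
  haveI := WC97.isReduced_of_smooth (pr G)
  exact isIntegral_of_irreducibleSpace_of_isReduced _

theorem dim_yy (hd : 2 ≤ d) (hG : G ≠ 0) : topologicalKrullDim (YY G) = 1 := by
  letI : (YY G).Over (Spec (CommRingCat.of k)) := ⟨pr G⟩
  haveI := isIntegral_yy G (by omega) hG
  haveI : LocallyOfFiniteType (YY G ↘ Spec (CommRingCat.of k)) :=
    inferInstanceAs (LocallyOfFiniteType (pr G))
  let ι := (LefPen.hypIdeal G).subschemeι
  let b₀ : Fin 3 → MvPolynomial (Fin 2) k := ![1, MvPolynomial.X 0, MvPolynomial.X 1]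
  let b₁ : Fin 3 → MvPolynomial (Fin 2) k := ![MvPolynomial.X 0, 1, MvPolynomial.X 1]
  obtain ⟨φ, hsur, hker, hφ₀⟩ := Crv77.exists_pieceHom (m := 2) G 0 ![1, 2] b₀ rfl
    (fun i => by fin_cases i <;> rfl) (fun t => by fin_cases t <;> simp)
  obtain ⟨φ₁, hsur₁, hker₁, hφ₁⟩ := Crv77.exists_pieceHom (m := 2) G 1 ![0, 2] b₁ rfl
    (fun i => by fin_cases i <;> rfl) (fun t => by fin_cases t <;> simp)
  have hne : Nonempty (An92.Lef.piece ι (0 : Fin 3)) := by
    by_contra hne
    have hbot : An92.Lef.piece ι (0 : Fin 3) = ⊥ :=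
      Opens.ext (Set.eq_empty_of_forall_notMem fun x hx => hne ⟨⟨x, hx⟩⟩)
    have hsub : Subsingleton Γ(YY G, An92.Lef.piece ι (0 : Fin 3)) := by
      rw [hbot]; infer_instance
    have hu : IsUnit (MvPolynomial.aeval b₀ G.1) := by
      rw [← Ideal.span_singleton_eq_top, ← hker, Ideal.eq_top_iff_one, RingHom.mem_ker]
      exact Subsingleton.elim _ _
    obtain ⟨c, hc, hcg⟩ : ∃ c : k, c ≠ 0 ∧ MvPolynomial.aeval b₀ G.1 = MvPolynomial.C c := by
      obtain ⟨c, hc⟩ : ∃ c : k, MvPolynomial.aeval b₀ G.1 = MvPolynomial.C c :=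
        ⟨_, MvPolynomial.totalDegree_eq_zero_iff_eq_C.1 (MvPolynomial.isUnit_iff_totalDegree_of_isReduced.1 hu).2⟩
      refine ⟨c, fun h0 => hu.ne_zero (by rw [hc, h0, map_zero]), hc⟩
    have hGeq : G.1 = MvPolynomial.C c * MvPolynomial.X 0 ^ d := by
      rw [← sub_eq_zero]
      refine Crv77.eq_zero_of_dehom_eq_zero (d := d) _ (MvPolynomial.IsHomogeneous.sub
        ((MvPolynomial.mem_homogeneousSubmodule _ _).1 G.2)
        (((MvPolynomial.isHomogeneous_X_pow (R := k) (0 : Fin 3) d)).C_mul c)) ?_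
      rw [map_sub, map_mul, map_pow, MvPolynomial.aeval_C, MvPolynomial.aeval_X, sub_eq_zero]
      exact hcg.trans (by simp [MvPolynomial.algebraMap_eq])
    have hX : φ₁ (MvPolynomial.X 0) ^ d = 0 := by
      rw [← map_pow]
      show φ₁.toRingHom _ = 0
      rw [← RingHom.mem_ker, hker₁, hGeq, map_mul, map_pow, MvPolynomial.aeval_C, MvPolynomial.aeval_X,
        MvPolynomial.algebraMap_eq, Ideal.span_singleton_mul_left_unit (((isUnit_iff_ne_zero.2 hc)).map MvPolynomial.C)]
      exact Ideal.mem_span_singleton_self _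
    have hX0 : φ₁ (MvPolynomial.X 0) = 0 := IsReduced.eq_zero _ ⟨d, hX⟩
    have hmem : MvPolynomial.X 0 ∈ RingHom.ker φ₁.toRingHom := hX0
    rw [hker₁, Ideal.mem_span_singleton'] at hmem
    obtain ⟨t, ht⟩ := hmem
    have h2 := congrArg (fun f => (MvPolynomial.aeval (R := k) ![(Polynomial.X : Polynomial k), 0] f).coeff 1) ht
    rw [hGeq] at h2
    simp [b₁] at h2
    rw [← mul_assoc, Polynomial.coeff_mul_X_pow', if_neg (by omega)] at h2
    simp at h2
  set g : MvPolynomial (Fin 2) k := MvPolynomial.aeval b₀ G.1 with hg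
  have hA := An92.Lef.isAffineOpen_piece ι (0 : Fin 3)
  rw [Var76.VarDim.dim_eq (k := k), ← WithBot.coe_one]
  have hg0 : g ≠ 0 := fun h0 => hG (Subtype.ext
    (Crv77.eq_zero_of_dehom_eq_zero _ ((MvPolynomial.mem_homogeneousSubmodule _ _).1 G.2) h0))
  have hprime : (Ideal.span {g}).IsPrime := hker ▸ RingHom.ker_isPrime φ.toRingHom
  have hnu : ¬ IsUnit g := fun hu => hprime.ne_top (Ideal.span_singleton_eq_top.2 hu)
  have h1 := Ideal.height_span_singleton_eq_one_of_mem_nonZeroDivisors (mem_nonZeroDivisors_of_ne_zero hg0) hnu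
  have h2 := E4O.height_add_trdeg_eq k (MvPolynomial (Fin 2) k) (Ideal.span {g})
  rw [MvPolynomial.trdeg_of_isDomain, E4O.trdeg_eq_natCast k (MvPolynomial (Fin 2) k ⧸ Ideal.span {g}), h1,
    Cardinal.mk_fin, Cardinal.lift_natCast] at h2
  have h3 : Cardinal.toNat (Algebra.trdeg k (MvPolynomial (Fin 2) k ⧸ Ideal.span {g})) = 1 := by
    have h4 : ((1 : ℕ) : Cardinal.{u}) + (Cardinal.toNat (Algebra.trdeg k (MvPolynomial (Fin 2) k ⧸ Ideal.span {g})) : ℕ) =
        ((2 : ℕ) : Cardinal.{u}) := by simpa using h2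
    have h5 : 1 + Cardinal.toNat (Algebra.trdeg k (MvPolynomial (Fin 2) k ⧸ Ideal.span {g})) = 2 := by
      exact_mod_cast h4
    omega
  have h6 := E4O.ringKrullDim_eq_trdeg k (MvPolynomial (Fin 2) k ⧸ Ideal.span {g})
  rw [h3] at h6
  have h7 := Var76.VarDim.ringKrullDim_chart (k := k) hA
  rw [← ringKrullDim_eq_of_ringEquiv ((Ideal.quotEquivOfEq hker.symm).trans
    (RingHom.quotientKerEquivOfSurjective (f := φ.toRingHom) hsur)), h6] at h7
  rw [← h7]
  rfl

omit [Smooth (pr G)] in
/-- A smooth plane cubic is a curve of genus one. -/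
theorem isCurveOfGenus_cubic (G : Form 2 k 3) (hG : G ≠ 0) [Smooth (pr G)] :
    ModFun.IsCurveOfGenus 1 (pr G) := by
  haveI := Curves2.ProjLine.isProper_toSpec k 2
  letI : (YY G).Over (Spec (CommRingCat.of k)) := ⟨pr G⟩
  haveI : IsProper (YY G ↘ Spec (CommRingCat.of k)) := inferInstanceAs (IsProper (pr G))
  haveI : Smooth (YY G ↘ Spec (CommRingCat.of k)) := ‹Smooth (pr G)›
  haveI : GeometricallyConnected (YY G ↘ Spec (CommRingCat.of k)) := geometricallyConnected_pr G (by omega) hG
  refine ⟨‹_›, inferInstance, Crv77.geometricallyIrreducible_of_connected k (YY G), fun Ω _ _ t X i q hp => ?_⟩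
  obtain ⟨φ, top, ht, hq⟩ := exists_fibre t G
  haveI : Smooth (pr (subForm φ 1 G)) := MorphismProperty.of_isPullback hq ‹Smooth (pr G)›
  let e : X ≅ YY (subForm φ 1 G) := hp.isoIsPullback _ _ hq
  refine ⟨?_, ?_⟩
  · rw [IsHomeomorph.topologicalKrullDim_eq _ e.hom.homeomorph.isHomeomorph]
    exact dim_yy _ (by omega) (subForm_one_ne_zero φ hG)
  · letI : X.Over (Spec (CommRingCat.of Ω)) := ⟨q⟩
    letI := φ.toAlgebra
    subst ht
    refine (Crv77.finrank_hh_structureModule_baseChange k Ω i hp 1).trans ?_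
    exact (Crv77.finrank_hh_hypersurface (by omega) G hG rfl).2

end Groth.Agent.NonFine97
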