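import Groth.Agent.An92.Lef.HypIdeal
import Groth.Agent.Csa25.ProjLin
import Groth.Agent.MP99.Basic

/-!
Hypersurfaces under diagonal semilinear substitutions of the coordinates.
-/

set_option autoImplicit false
set_option backward.isDefEq.respectTransparency.types false
set_option linter.style.haveILetI false

universe u

noncomputable section

open CategoryTheory CategoryTheory.Limits AlgebraicGeometry TopologicalSpace Opposite HomogeneousLocalization

namespace Groth.Agent.NonFine97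

open Csa25 LefPen

variable {k K : Type u} [Field k] [Field K] {r d : ℕ}

local notation "PK" => CohB1.ProjSpace r K
local notation "𝒜K" => CohB1.polyGrading r K

theorem isUnit_diag (c : Fin (r + 1) → K) (hc : ∀ i, c i ≠ 0) : IsUnit (Matrix.diagonal c) :=
  Matrix.isUnit_diagonal.2 ⟨⟨c, c⁻¹, funext fun i => mul_inv_cancel₀ (hc i), funext fun i => inv_mul_cancel₀ (hc i)⟩, rfl⟩

/-- The substituted form. -/
def subForm (φ : k →+* K) (c : Fin (r + 1) → K) (G : Form r k d) : Form r K d :=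
  ⟨linHom φ (Matrix.diagonal c) G.1, (linHom φ (Matrix.diagonal c)).map_mem G.2⟩

theorem subForm_val (φ : k →+* K) (c : Fin (r + 1) → K) (G : Form r k d) :
    (subForm φ c G).1 = MvPolynomial.eval₂ (MvPolynomial.C.comp φ)
      (fun j => MvPolynomial.C (c j) * MvPolynomial.X j) G.1 := by
  show MvPolynomial.eval₂Hom _ (linForm (Matrix.diagonal c)) G.1 = _
  rw [show linForm (Matrix.diagonal c) = fun j => MvPolynomial.C (c j) * MvPolynomial.X j from
    funext (linForm_diagonal c)]
  rfl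

theorem basicOpen_C_mul {a : K} (ha : a ≠ 0) (f : MvPolynomial (Fin (r + 1)) K) :
    Proj.basicOpen 𝒜K (MvPolynomial.C a * f) = Proj.basicOpen 𝒜K f := by
  ext p
  show (MvPolynomial.C a * f) ∉ p.asHomogeneousIdeal ↔ f ∉ p.asHomogeneousIdeal
  refine not_congr ⟨fun h => ?_, fun h => Ideal.mul_mem_left _ _ h⟩
  have := Ideal.mul_mem_left p.asHomogeneousIdeal.toIdeal (MvPolynomial.C a⁻¹) h
  rwa [← mul_assoc, ← map_mul, inv_mul_cancel₀ ha, map_one, one_mul] at this

/-- The dehomogenisations at `f` and at a multiple of `f` by a constant differ by a unit. -/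
theorem span_awayMk {f f' : MvPolynomial (Fin (r + 1)) K} {a : K} (ha : a ≠ 0)
    (hff : f' = MvPolynomial.C a * f) (hf : f ∈ 𝒜K 1) (hf' : f' ∈ 𝒜K 1) {y : MvPolynomial (Fin (r + 1)) K}
    (hy : y ∈ 𝒜K (d • 1)) (h : Proj.basicOpen 𝒜K f' ≤ Proj.basicOpen 𝒜K f) :
    (Ideal.span {(Proj.awayToSection 𝒜K f).hom (Away.mk 𝒜K hf d y hy)}).map
        ((PK).presheaf.map (homOfLE h).op).hom =
      Ideal.span {(Proj.awayToSection 𝒜K f').hom (Away.mk 𝒜K hf' d y hy)} := by
  have hC : MvPolynomial.C (a ^ d) ∈ 𝒜K (0 • 1) := by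
    rw [zero_smul]
    exact MvPolynomial.isHomogeneous_C _ _
  have hC' : MvPolynomial.C (a ^ d)⁻¹ ∈ 𝒜K (0 • 1) := by
    rw [zero_smul]
    exact MvPolynomial.isHomogeneous_C _ _
  let u := (Proj.awayToSection 𝒜K f').hom (Away.mk 𝒜K hf' 0 _ hC)
  have hu : IsUnit u := by
    refine IsUnit.map _ ⟨⟨Away.mk 𝒜K hf' 0 _ hC, Away.mk 𝒜K hf' 0 _ hC', ?_, ?_⟩, rfl⟩ <;>
      refine val_injective _ ?_ <;>
      rw [val_mul, Away.val_mk, Away.val_mk, val_one, Localization.mk_mul, ← map_mul] <;>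
      simp [ha, Localization.mk_one]
  rw [Ideal.map_span, Set.image_singleton]
  refine Eq.trans (congrArg (fun z => Ideal.span {z}) ?_) (Ideal.span_singleton_mul_left_unit hu _)
  show _ = (Proj.awayToSection 𝒜K f').hom _ * (Proj.awayToSection 𝒜K f').hom _
  refine Subtype.ext (funext fun p => val_injective _ ?_)
  show (HomogeneousLocalization.mapId 𝒜K _ (Away.mk 𝒜K hf d y hy)).val =
    (HomogeneousLocalization.mapId 𝒜K _ (Away.mk 𝒜K hf' 0 _ hC) *
      HomogeneousLocalization.mapId 𝒜K _ (Away.mk 𝒜K hf' d y hy)).val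
  rw [val_mul]
  simp only [Away.mk, HomogeneousLocalization.mapId, HomogeneousLocalization.map_mk, val_mk,
    Localization.mk_mul]
  rw [Localization.mk_eq_mk_iff, Localization.r_iff_exists]
  refine ⟨1, ?_⟩
  show ((1 : MvPolynomial (Fin (r + 1)) K) * _ = _)
  subst hff
  simp
  ring

theorem linHom_diag_X (φ : k →+* K) (c : Fin (r + 1) → K) (j : Fin (r + 1)) :
    linHom φ (Matrix.diagonal c) (MvPolynomial.X j) = MvPolynomial.C (c j) * MvPolynomial.X j :=
  (linHom_X _ _ j).trans (linForm_diagonal c j)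

/-- The inverse image of a hypersurface under a diagonal substitution. -/
theorem comap_hypIdeal (φ : k →+* K) (c : Fin (r + 1) → K) (hc : ∀ i, c i ≠ 0) (G : Form r k d) :
    (hypIdeal G).comap (linMap φ (Matrix.diagonal c) (isUnit_diag c hc)) = hypIdeal (subForm φ c G) := by
  have hV : ∀ j, Proj.basicOpen 𝒜K (linHom φ (Matrix.diagonal c) (MvPolynomial.X j)) = chart r K j := fun j => by
    rw [linHom_diag_X, basicOpen_C_mul (hc j)]
  have hVa : ∀ j, IsAffineOpen (Proj.basicOpen 𝒜K (linHom φ (Matrix.diagonal c) (MvPolynomial.X j))) :=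
    fun j => by
      rw [hV j]
      exact Var76.ProjCoord.isAffineOpen_U K r j
  refine Scheme.IdealSheafData.ext_of_iSup_eq_top (fun j => ⟨_, hVa j⟩)
    (eq_top_iff.2 fun x _ => ?_) fun j => ?_
  · obtain ⟨j, hj⟩ := Var76.ProjCoord.exists_mem_U K r x
    refine Opens.mem_iSup.2 ⟨j, ?_⟩
    show x ∈ Proj.basicOpen 𝒜K _
    rw [hV j]
    exact hj
  rw [← (hypIdeal (subForm φ c G)).map_ideal (U := ⟨_, hVa j⟩)
    (V := ⟨chart r K j, Var76.ProjCoord.isAffineOpen_U K r j⟩) (hV j).le, An92.Lef.hypIdeal_chart]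
  have hX := X_mem r k j
  have hf' := (linHom φ (Matrix.diagonal c)).map_mem hX
  refine Eq.trans ?_ (span_awayMk (f := MvPolynomial.X j) (f' := linHom φ (Matrix.diagonal c) (MvPolynomial.X j))
    (hc j) (linHom_diag_X φ c j) (X_mem r K j) hf' (y := (subForm φ c G).1)
    (by rw [smul_eq_mul, mul_one]; exact (subForm φ c G).2) _).symm
  refine (MP99.ideal_comap (hypIdeal G) _ ⟨chart r k j, Var76.ProjCoord.isAffineOpen_U k r j⟩ ⟨_, hVa j⟩
    (by rfl)).trans ?_
  rw [An92.Lef.hypIdeal_chart, Ideal.map_span, Set.image_singleton]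
  refine congrArg (fun z => Ideal.span {z}) ?_
  have e := congrArg (fun ψ => ψ.hom (Away.mk (CohB1.polyGrading r k) hX d G.1
    (by rw [smul_eq_mul, mul_one]; exact G.2)))
    (Proj.awayToSection_comp_appLE (linHom φ (Matrix.diagonal c))
    (irrelevant_le_map_linHom φ (isUnit_diag c hc)) hX)
  simp only [CommRingCat.hom_comp, RingHom.comp_apply, CommRingCat.hom_ofHom] at e
  rw [Away.map_mk (linHom φ (Matrix.diagonal c)) _ hX] at e
  unfold dehom
  unfold linMap
  exact e

end Groth.Agent.NonFine97
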