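import Groth.Agent.NonFine97.Twist
import Mathlib.AlgebraicGeometry.Morphisms.Flat
import Mathlib.FieldTheory.IsAlgClosed.AlgebraicClosure

/-!
The moduli problem of curves of genus one has no fine moduli scheme.
-/

set_option autoImplicit false
set_option backward.isDefEq.respectTransparency.types false
set_option linter.style.haveILetI false

universe u

noncomputable section

open CategoryTheory CategoryTheory.Limits AlgebraicGeometry TopologicalSpace Opposite

namespace Groth.Agent.NonFine97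

open LefPen MvPolynomial

/-- The base change of the family of a form. -/
theorem nonempty_pullback_iso {L K : Type u} [Field L] [Field K] (φ : L →+* K) (c : Fin 3 → K) (hc : ∀ i, c i ≠ 0)
    {d : ℕ} (G : Form 2 L d) (G' : Form 2 K d) (h : subForm φ c G = G') :
    Nonempty ((Over.pullback (Spec.map (CommRingCat.ofHom φ))).obj (Over.mk (pr G)) ≅ Over.mk (pr G')) := by
  subst h
  letI := φ.toAlgebra
  obtain ⟨top, hp⟩ := isPullback_sub (K := K) c hc G
  exact ⟨Over.isoMk hp.isoPullback.symm (hp.isoPullback_inv_snd)⟩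

theorem subForm_diag {L K : Type u} [Field L] [Field K] (φ : L →+* K) (c : Fin 3 → K) (a : Fin 3 → L) (δ : L) :
    (subForm φ c (diagForm a δ)) = diagForm (fun i => φ (a i) * c i ^ 3) (φ δ * (c 0 * c 1 * c 2)) := by
  refine Subtype.ext ?_
  rw [subForm_val]
  simp only [diagForm, eval₂_add, eval₂_mul, eval₂_pow, eval₂_C, eval₂_X, RingHom.comp_apply, map_mul, map_pow]
  ring

theorem not_isFineModuli (k : Type u) [Field k] (M : Over (Spec (CommRingCat.of k))) :
    ¬ ModFun.IsFineModuli ⊤ (ModFun.Mg (Spec (CommRingCat.of k)) 1) M := by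
  classical
  rintro ⟨ξ, -, huniv⟩
  let L := RatFunc k
  let Lb := AlgebraicClosure L
  let φ : L →+* Lb := algebraMap L Lb
  let e : k := if (3 : k) = 0 then 1 else 0
  let δ : L := algebraMap (Polynomial k) L (Polynomial.C e)
  let t : L := RatFunc.X
  have ht : t ≠ 0 := RatFunc.X_ne_zero
  let G₁ := diagForm ![1, t, t ^ 2] (t * δ)
  let G₀ := diagForm (fun _ : Fin 3 => (1 : L)) δ
  have h3 : ((3 : L) = 0) ↔ (3 : k) = 0 := by
    rw [← map_ofNat (algebraMap k L) 3]
    exact map_eq_zero_iff _ (algebraMap k L).injective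
  have hcase : ∀ u : L, u ≠ 0 → ((3 : L) ≠ 0 ∧ u * δ = 0) ∨ ((3 : L) = 0 ∧ u * δ ≠ 0) := fun u hu => by
    by_cases h : (3 : k) = 0
    · exact Or.inr ⟨h3.2 h, mul_ne_zero hu (by simp [δ, e, h])⟩
    · exact Or.inl ⟨fun h' => h (h3.1 h'), by simp [δ, e, h]⟩
  haveI : Smooth (pr G₁) := smooth_diagForm (fun i => by fin_cases i <;> simp [ht]) _ (hcase t ht)
  haveI : Smooth (pr G₀) := smooth_diagForm (fun _ => one_ne_zero) _ (by simpa using hcase 1 one_ne_zero)
  have hn₁ : G₁ ≠ 0 := diagForm_ne_zero _ (by simp)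
  have hn₀ : G₀ ≠ 0 := diagForm_ne_zero _ one_ne_zero
  obtain ⟨s, hs⟩ := IsAlgClosed.exists_pow_nat_eq (φ t) (n := 3) (by norm_num)
  have hs0 : s ≠ 0 := fun h => ht (φ.injective (by rw [← hs, h, zero_pow (by norm_num), map_zero]))
  let c : Fin 3 → Lb := ![1, s, s ^ 2]
  have hc : ∀ i, c i ≠ 0 := fun i => by fin_cases i <;> simp [c, hs0]
  let Gb := subForm φ 1 G₁
  have hGb : subForm φ c G₀ = Gb := by
    rw [show Gb = subForm φ 1 G₁ from rfl, subForm_diag, subForm_diag]
    congr 1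
    · funext i
      fin_cases i <;> simp [c, ← hs, ← pow_mul]
    · simp [c, ← hs]
      ring
  have hsm : Smooth (pr Gb) := by
    letI := φ.toAlgebra
    obtain ⟨top, hp⟩ := isPullback_sub (K := Lb) (1 : Fin 3 → Lb) (fun _ => one_ne_zero) G₁
    exact MorphismProperty.of_isPullback hp ‹Smooth (pr G₁)›
  let T : Over (Spec (CommRingCat.of k)) := Over.mk (Spec.map (CommRingCat.ofHom (algebraMap k L)))
  let Tb : Over (Spec (CommRingCat.of k)) := Over.mk (Spec.map (CommRingCat.ofHom φ) ≫ T.hom)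
  let p : Tb ⟶ T := Over.homMk (Spec.map (CommRingCat.ofHom φ)) rfl
  obtain ⟨g₁, hg₁, -⟩ := huniv T (Over.mk (pr G₁)) trivial ⟨trivial, isCurveOfGenus_cubic G₁ hn₁⟩
  obtain ⟨g₀, hg₀, -⟩ := huniv T (Over.mk (pr G₀)) trivial ⟨trivial, isCurveOfGenus_cubic G₀ hn₀⟩
  obtain ⟨i₁⟩ := hg₁
  obtain ⟨i₀⟩ := hg₀
  obtain ⟨j₁⟩ := nonempty_pullback_iso φ 1 (fun _ => one_ne_zero) G₁ Gb rfl
  obtain ⟨j₀⟩ := nonempty_pullback_iso φ c hc G₀ Gb hGb
  have hu := huniv Tb (Over.mk (pr Gb)) trivial ⟨trivial, isCurveOfGenus_cubic Gb (subForm_one_ne_zero φ hn₁)⟩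
  have he : p ≫ g₁ = p ≫ g₀ := hu.unique
    ⟨(Over.pullbackComp p.left g₁.left).app ξ ≪≫ (Over.pullback p.left).mapIso i₁ ≪≫ j₁⟩
    ⟨(Over.pullbackComp p.left g₀.left).app ξ ≪≫ (Over.pullback p.left).mapIso i₀ ≪≫ j₀⟩
  have hgg : g₁ = g₀ := by
    letI := φ.toAlgebra
    haveI : Flat (Spec.map (CommRingCat.ofHom φ)) := by
      rw [HasRingHomProperty.Spec_iff (P := @Flat)]
      exact RingHom.flat_algebraMap_iff.2 inferInstance
    haveI : Surjective (Spec.map (CommRingCat.ofHom φ)) := ⟨fun x => ⟨IsLocalRing.closedPoint Lb,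
      @Subsingleton.elim _ (inferInstanceAs (Subsingleton (PrimeSpectrum L))) _ _⟩⟩
    haveI := Flat.epi_of_flat_of_surjective (Spec.map (CommRingCat.ofHom φ))
    exact Over.OverMorphism.ext ((cancel_epi (Spec.map (CommRingCat.ofHom φ))).1
      (congrArg CommaMorphism.left he))
  subst hgg
  let i := i₀.symm ≪≫ i₁
  obtain ⟨σ, hσ⟩ := exists_section_of_zero G₀ 0 ![1, -1, 0] rfl (by
    rw [aeval_diagForm]; simp; ring)
  obtain ⟨j, v, hv, h0⟩ := exists_zero_of_section G₁ (σ ≫ i.hom.left) (by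
    rw [Category.assoc, show i.hom.left ≫ pr G₁ = pr G₀ from Over.w i.hom]
    exact hσ)
  exact no_point_twisted k e v j hv h0

end Groth.Agent.NonFine97
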