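import Groth.Agent.NonFine97.Cubic
import Mathlib.FieldTheory.RatFunc.AsPolynomial

/-!
Two forms of a plane cubic over `k(t)`: one with a rational point, one without.
-/

set_option autoImplicit false
set_option backward.isDefEq.respectTransparency.types false
set_option linter.style.haveILetI false

universe u

noncomputable section

open CategoryTheory CategoryTheory.Limits AlgebraicGeometry TopologicalSpace Opposite

namespace Groth.Agent.NonFine97

open LefPen MvPolynomial

variable {L : Type u} [Field L]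

/-- `a₀ X₀³ + a₁ X₁³ + a₂ X₂³ + δ X₀ X₁ X₂`. -/
def diagForm (a : Fin 3 → L) (δ : L) : Form 2 L 3 :=
  ⟨C (a 0) * X 0 ^ 3 + C (a 1) * X 1 ^ 3 + C (a 2) * X 2 ^ 3 + C δ * (X 0 * X 1 * X 2),
    (mem_homogeneousSubmodule _ _).2 <|
      ((((isHomogeneous_X_pow (0 : Fin 3) 3).C_mul _).add ((isHomogeneous_X_pow (1 : Fin 3) 3).C_mul _)).add
        ((isHomogeneous_X_pow (2 : Fin 3) 3).C_mul _)).add
        ((((isHomogeneous_X L (0 : Fin 3)).mul (isHomogeneous_X L (1 : Fin 3))).mul
          (isHomogeneous_X L (2 : Fin 3))).C_mul _)⟩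

theorem aeval_diagForm {K : Type u} [CommRing K] [Algebra L K] (a : Fin 3 → L) (δ : L) (v : Fin 3 → K) :
    aeval v (diagForm a δ).1 = algebraMap L K (a 0) * v 0 ^ 3 + algebraMap L K (a 1) * v 1 ^ 3 +
      algebraMap L K (a 2) * v 2 ^ 3 + algebraMap L K δ * (v 0 * v 1 * v 2) := by
  simp [diagForm]

theorem diagForm_ne_zero {a : Fin 3 → L} (δ : L) (ha : a 0 ≠ 0) : diagForm a δ ≠ 0 := fun h => by
  have := aeval_diagForm a δ (![1, 0, 0] : Fin 3 → L)
  rw [h] at this
  simp at this
  exact ha this.symm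

theorem smooth_diagForm {a : Fin 3 → L} (ha : ∀ i, a i ≠ 0) (δ : L)
    (hδ : ((3 : L) ≠ 0 ∧ δ = 0) ∨ ((3 : L) = 0 ∧ δ ≠ 0)) : Smooth (pr (diagForm a δ)) := by
  refine (Smooth31.smooth_iff_points _ fun h => diagForm_ne_zero δ (ha 0) (Subtype.ext h)).2 ?_
  rintro K _ _ j v hv ⟨h0, h1⟩
  rw [aeval_diagForm] at h0
  have hm : ∀ x : L, x ≠ 0 → algebraMap L K x ≠ 0 := fun x hx => by simpa using hx
  have p0 : j ≠ 0 → algebraMap L K (3 * a 0) * v 0 ^ 2 + algebraMap L K δ * (v 1 * v 2) = 0 := fun h => by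
    rw [← h1 0 (Ne.symm h)]
    simp [diagForm, pderiv_X, map_mul, map_ofNat]
    ring
  have p1 : j ≠ 1 → algebraMap L K (3 * a 1) * v 1 ^ 2 + algebraMap L K δ * (v 0 * v 2) = 0 := fun h => by
    rw [← h1 1 (Ne.symm h)]
    simp [diagForm, pderiv_X, map_mul, map_ofNat]
    ring
  have p2 : j ≠ 2 → algebraMap L K (3 * a 2) * v 2 ^ 2 + algebraMap L K δ * (v 0 * v 1) = 0 := fun h => by
    rw [← h1 2 (Ne.symm h)]
    simp [diagForm, pderiv_X, map_mul, map_ofNat]
    ring
  rcases hδ with ⟨h3, rfl⟩ | ⟨h3, hδ⟩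
  · have hz : ∀ (x : L) (w : K), x ≠ 0 →
        algebraMap L K (3 * x) * w ^ 2 + algebraMap L K (0 : L) * 0 = 0 → w = 0 := fun x w hx h => by
      simp only [mul_zero, add_zero] at h
      exact pow_eq_zero_iff two_ne_zero |>.1 ((mul_eq_zero.1 h).resolve_left (hm _ (mul_ne_zero h3 hx)))
    simp only [map_zero, zero_mul, mul_zero] at p0 p1 p2 h0
    fin_cases j <;> simp only [Fin.isValue, Fin.zero_eta, Fin.mk_one, Fin.reduceFinMk] at hv p0 p1 p2
    · have e1 := hz (a 1) _ (ha 1) (by simpa using p1 (by decide))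
      have e2 := hz (a 2) _ (ha 2) (by simpa using p2 (by decide))
      simp [hv, e1, e2, ha 0] at h0
    · have e1 := hz (a 0) _ (ha 0) (by simpa using p0 (by decide))
      have e2 := hz (a 2) _ (ha 2) (by simpa using p2 (by decide))
      simp [hv, e1, e2, ha 1] at h0
    · have e1 := hz (a 0) _ (ha 0) (by simpa using p0 (by decide))
      have e2 := hz (a 1) _ (ha 1) (by simpa using p1 (by decide))
      simp [hv, e1, e2, ha 2] at h0
  · have hd := hm δ hδ
    simp only [h3, zero_mul, map_zero, zero_add, mul_eq_zero, hd, false_or] at p0 p1 p2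
    fin_cases j <;> simp only [Fin.isValue, Fin.zero_eta, Fin.mk_one, Fin.reduceFinMk] at hv p0 p1 p2
    · rw [hv] at p1 p2
      have e2 : v 2 = 0 := (p1 (by decide)).resolve_left one_ne_zero
      have e1 : v 1 = 0 := (p2 (by decide)).resolve_left one_ne_zero
      simp [hv, e1, e2, ha 0] at h0
    · rw [hv] at p0 p2
      have e2 : v 2 = 0 := (p0 (by decide)).resolve_left one_ne_zero
      have e1 : v 0 = 0 := (p2 (by decide)).resolve_right one_ne_zero
      simp [hv, e1, e2, ha 1] at h0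
    · rw [hv] at p0 p1
      have e2 : v 1 = 0 := (p0 (by decide)).resolve_right one_ne_zero
      have e1 : v 0 = 0 := (p1 (by decide)).resolve_right one_ne_zero
      simp [hv, e1, e2, ha 2] at h0

section Points

variable {d : ℕ} (G : Form 2 L d)

open An92.Lef (piece pcoord pconst)

/-- A zero of the form gives a rational point. -/
theorem exists_section_of_zero (j : Fin 3) (v : Fin 3 → L) (hv : v j = 1) (hG : aeval v G.1 = 0) :
    ∃ σ : Spec (CommRingCat.of L) ⟶ YY G, σ ≫ pr G = 𝟙 _ := by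
  obtain ⟨φ, hsur, hker, -⟩ := Crv77.exists_pieceHom (m := 2) G j (fun i => j.succAbove i)
    (j.insertNth 1 X) (Fin.insertNth_apply_same _ _ _) (fun i => Fin.insertNth_apply_succAbove _ _ _ i)
    (fun t => (Fin.eq_self_or_eq_succAbove j t).imp id fun ⟨i, hi⟩ => ⟨i, hi.symm⟩)
  let ev : MvPolynomial (Fin 2) L →ₐ[L] L := aeval fun i => v (j.succAbove i)
  have hle : RingHom.ker φ.toRingHom ≤ RingHom.ker ev.toRingHom := by
    rw [hker, Ideal.span_singleton_le_iff_mem, RingHom.mem_ker]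
    show ev (aeval _ G.1) = 0
    rw [comp_aeval_apply]
    refine Eq.trans ?_ hG
    congr 2
    funext t
    rcases Fin.eq_self_or_eq_succAbove j t with rfl | ⟨i, rfl⟩
    · simp [ev, hv]
    · simp [ev]
  let ψ := φ.toRingHom.liftOfSurjective hsur ⟨ev.toRingHom, hle⟩
  have hψ : ∀ p, ψ (φ p) = ev p :=
    fun p => φ.toRingHom.liftOfRightInverse_comp_apply _ _ ⟨ev.toRingHom, hle⟩ p
  have hA := An92.Lef.isAffineOpen_piece (hypIdeal G).subschemeι j
  refine ⟨Spec.map (CommRingCat.ofHom ψ) ≫ hA.fromSpec, ?_⟩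
  letI : (YY G).Over (Spec (CommRingCat.of L)) := ⟨pr G⟩
  have hs := Var76.BertiniScheme.SpecMap_const (k := L) (Y := YY G) hA
  rw [Category.assoc, show pr G = YY G ↘ Spec (CommRingCat.of L) from rfl, ← hs, ← Spec.map_comp,
    ← CommRingCat.ofHom_comp]
  refine Eq.trans (congrArg (fun h => Spec.map (CommRingCat.ofHom h)) (RingHom.ext fun c => ?_)) (Spec.map_id _)
  show ψ (algebraMap L Γ(YY G, piece (hypIdeal G).subschemeι j) c) = c
  rw [← φ.commutes, hψ, AlgHom.commutes]
  rfl

/-- A rational point gives a zero of the form. -/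
theorem exists_zero_of_section (σ : Spec (CommRingCat.of L) ⟶ YY G) (hσ : σ ≫ pr G = 𝟙 _) :
    ∃ (j : Fin 3) (v : Fin 3 → L), v j = 1 ∧ aeval v G.1 = 0 := by
  let x₀ : Spec (CommRingCat.of L) := IsLocalRing.closedPoint L
  obtain ⟨j, hj⟩ := Opens.mem_iSup.1 ((An92.Lef.iSup_piece (hypIdeal G).subschemeι).ge (show σ x₀ ∈ ⊤ from trivial))
  have htop : (⊤ : (Spec (CommRingCat.of L)).Opens) ≤ σ ⁻¹ᵁ piece (hypIdeal G).subschemeι j := fun x _ => by
    haveI : Subsingleton (Spec (CommRingCat.of L)) := inferInstanceAs (Subsingleton (PrimeSpectrum L))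
    rw [Subsingleton.elim x x₀]
    exact hj
  obtain ⟨φ, hsur, hker, hφ⟩ := Crv77.exists_pieceHom (m := 2) G j (fun i => j.succAbove i)
    (j.insertNth 1 X) (Fin.insertNth_apply_same _ _ _) (fun i => Fin.insertNth_apply_succAbove _ _ _ i)
    (fun t => (Fin.eq_self_or_eq_succAbove j t).imp id fun ⟨i, hi⟩ => ⟨i, hi.symm⟩)
  letI : (YY G).Over (Spec (CommRingCat.of L)) := ⟨pr G⟩
  let ψ : Γ(YY G, piece (hypIdeal G).subschemeι j) →+* L :=
    (σ.appLE _ ⊤ htop ≫ (Scheme.ΓSpecIso (CommRingCat.of L)).hom).hom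
  have hc : ∀ c, ψ (algebraMap L Γ(YY G, piece (hypIdeal G).subschemeι j) c) = c := by
    intro c
    have e : (Scheme.ΓSpecIso (CommRingCat.of L)).inv ≫ (pr G).appLE ⊤ (piece (hypIdeal G).subschemeι j) le_top ≫
        σ.appLE _ ⊤ htop ≫ (Scheme.ΓSpecIso (CommRingCat.of L)).hom = 𝟙 _ := by
      rw [Scheme.Hom.appLE_comp_appLE_assoc]
      have e' : ∀ (g : Spec (CommRingCat.of L) ⟶ Spec (CommRingCat.of L)), g = 𝟙 _ →
          g.appLE ⊤ ⊤ le_top = 𝟙 _ := fun g hg => by
        subst hg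
        exact (Scheme.Hom.appLE_eq_app _).trans rfl
      erw [e' _ hσ]
      simp
    exact congr($(e).hom c)
  let b : Fin 3 → MvPolynomial (Fin 2) L := j.insertNth 1 X
  refine ⟨j, fun t => ψ (φ (b t)), ?_, ?_⟩
  · show ψ (φ ((j.insertNth 1 X : Fin 3 → MvPolynomial (Fin 2) L) j)) = 1
    rw [Fin.insertNth_apply_same, map_one, map_one]
  · let ψ' : Γ(YY G, piece (hypIdeal G).subschemeι j) →ₐ[L] L := { ψ with commutes' := hc }
    show aeval (fun t => ψ'.comp φ (b t)) G.1 = 0
    rw [← comp_aeval_apply, AlgHom.comp_apply]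
    rw [show φ (aeval b G.1) = 0 from
      RingHom.mem_ker.1 (hker.ge (Ideal.mem_span_singleton_self _)), map_zero]

end Points

section Descent

open Polynomial in
theorem eq_zero_of_twisted {F : Type u} [Field F] (e : F) :
    ∀ (n : ℕ) (x y z : Polynomial F), x.natDegree + y.natDegree + z.natDegree ≤ n →
      x ^ 3 + Polynomial.X * y ^ 3 + Polynomial.X ^ 2 * z ^ 3 + Polynomial.C e * Polynomial.X * (x * y * z) = 0 →
      x = 0 ∧ y = 0 ∧ z = 0 := by
  intro n
  induction n using Nat.strong_induction_on with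
  | _ n ih =>
    have key : ∀ x y z : Polynomial F, x.natDegree + y.natDegree + z.natDegree ≤ n →
        x ^ 3 + Polynomial.X * y ^ 3 + Polynomial.X ^ 2 * z ^ 3 + Polynomial.C e * Polynomial.X * (x * y * z) = 0 →
        x = 0 ∧ (y ^ 3 + Polynomial.X * z ^ 3 = 0) := by
      intro x y z hn h
      have hx0 : x.eval 0 = 0 := by simpa using congrArg (Polynomial.eval 0) h
      obtain ⟨x', rfl⟩ := Polynomial.X_dvd_iff.2 (Polynomial.coeff_zero_eq_eval_zero x ▸ hx0)
      have h' : y ^ 3 + Polynomial.X * z ^ 3 + Polynomial.X ^ 2 * x' ^ 3 +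
          Polynomial.C e * Polynomial.X * (y * z * x') = 0 := by
        refine (mul_eq_zero.1 (?_ : Polynomial.X * _ = 0)).resolve_left Polynomial.X_ne_zero
        rw [← h]
        ring
      by_cases hx : x' = 0
      · subst hx
        exact ⟨mul_zero _, by simpa using h'⟩
      · have hdeg : y.natDegree + z.natDegree + x'.natDegree < n := by
          rw [Polynomial.natDegree_mul Polynomial.X_ne_zero hx, Polynomial.natDegree_X] at hn
          omega
        exact absurd (ih _ hdeg y z x' le_rfl h').2.2 hx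
    intro x y z hn h
    obtain ⟨hx, h1⟩ := key x y z hn h
    obtain ⟨hy, h2⟩ := key y z 0 (by simp; omega) (by simpa using h1)
    refine ⟨hx, hy, ?_⟩
    simpa using h2

variable (F : Type u) [Field F]

theorem no_point_twisted (e : F) (v : Fin 3 → RatFunc F) (j : Fin 3) (hj : v j = 1) :
    aeval v (diagForm ![1, RatFunc.X, RatFunc.X ^ 2]
      (RatFunc.X * algebraMap (Polynomial F) (RatFunc F) (Polynomial.C e))).1 ≠ 0 := by
  intro h
  obtain ⟨⟨b, hb⟩, hint⟩ := IsLocalization.exist_integer_multiples_of_finite (nonZeroDivisors (Polynomial F)) v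
  choose p hp using hint
  rw [aeval_diagForm] at h
  simp only [Algebra.algebraMap_self, RingHom.id_apply, Matrix.cons_val_zero, Matrix.cons_val_one,
    Matrix.cons_val, one_mul] at h
  have h' : algebraMap (Polynomial F) (RatFunc F) (p 0 ^ 3 + Polynomial.X * p 1 ^ 3 + Polynomial.X ^ 2 * p 2 ^ 3 +
      Polynomial.C e * Polynomial.X * (p 0 * p 1 * p 2)) = 0 := by
    simp only [map_add, map_mul, map_pow, hp, Algebra.smul_def, RatFunc.algebraMap_X]
    linear_combination (algebraMap (Polynomial F) (RatFunc F) b) ^ 3 * h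
  rw [map_eq_zero_iff _ (RatFunc.algebraMap_injective F)] at h'
  obtain ⟨h0, h1, h2⟩ := eq_zero_of_twisted e _ _ _ _ le_rfl h'
  have hpj : p j = 0 := by fin_cases j <;> assumption
  have := hp j
  rw [hpj, map_zero, hj, Algebra.smul_def, mul_one] at this
  exact nonZeroDivisors.ne_zero hb ((map_eq_zero_iff _ (RatFunc.algebraMap_injective F)).1 this.symm)

end Descent

end Groth.Agent.NonFine97
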